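import Cfsg.Agent.Lib.SporRecognition.CosetCert.Chain
import Cfsg.Agent.Lib.FusionExamples.LySub.Defs

/-! Generated coset-enumeration certificate: LYP over <a>, 60 cosets. -/

set_option autoImplicit false
set_option maxRecDepth 20000
set_option linter.all false
set_option Elab.async false

namespace CfsgLib.FusionExamples.LySub.LyA

open CfsgLib.SporRecognition.CosetCert

def T1Lit : Nat := 0xef7d2dea9a3992696cbafe306e7db5ab2c738d55137d6751acf41835e8a180a7196885c61d210e2cc0890450c0
noncomputable def T1 (u : Nat) : Nat := Nat.land (Nat.shiftRight T1Lit (Nat.mul 6 u)) 63
def T2Lit : Nat := 0xef7d2dea9a3992696cbafe306e7db5ab2c738d55137d6751acf41835e8a180a7196885c61d210e2cc0890450c0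
noncomputable def T2 (u : Nat) : Nat := Nat.land (Nat.shiftRight T2Lit (Nat.mul 6 u)) 63
def T3Lit : Nat := 0xeb5ef9c72e339a286ba9fbb6dda819a17d1691cc2f4ad46c7693a794c8cb51e25b2183d51534033422861c0101
noncomputable def T3 (u : Nat) : Nat := Nat.land (Nat.shiftRight T3Lit (Nat.mul 6 u)) 63
def T4Lit : Nat := 0xe7be35aecea5d36de182d79cc2f6a76335e3572c69b926e242aa0e9a431329f7493591d650544f0c42c1206002
noncomputable def T4 (u : Nat) : Nat := Nat.land (Nat.shiftRight T4Lit (Nat.mul 6 u)) 63

noncomputable def tabs : Cfsg.Spor.Ly.Gen → Bool → Nat → Nat :=
  fun a b => match a with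
  | .a => bif b then T1 else T2
  | .b => bif b then T3 else T4
  | .c => bif b then (fun u => u) else (fun u => u)
  | .d => bif b then (fun u => u) else (fun u => u)
  | .z => bif b then (fun u => u) else (fun u => u)
  | .e => bif b then (fun u => u) else (fun u => u)
  | .a1 => bif b then (fun u => u) else (fun u => u)
  | .a2 => bif b then (fun u => u) else (fun u => u)
  | .a3 => bif b then (fun u => u) else (fun u => u)
  | .a4 => bif b then (fun u => u) else (fun u => u)
  | .c1 => bif b then (fun u => u) else (fun u => u)
  | .c2 => bif b then (fun u => u) else (fun u => u)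
  | .c3 => bif b then (fun u => u) else (fun u => u)
  | .c4 => bif b then (fun u => u) else (fun u => u)
  | .c5 => bif b then (fun u => u) else (fun u => u)
  | .u => bif b then (fun u => u) else (fun u => u)
  | .x23 => bif b then (fun u => u) else (fun u => u)
  | .x24 => bif b then (fun u => u) else (fun u => u)
  | .x25 => bif b then (fun u => u) else (fun u => u)
  | .x29 => bif b then (fun u => u) else (fun u => u)
  | .x47 => bif b then (fun u => u) else (fun u => u)
  | .x96 => bif b then (fun u => u) else (fun u => u)
  | .x129 => bif b then (fun u => u) else (fun u => u)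
  | .x162 => bif b then (fun u => u) else (fun u => u)
  | .x163 => bif b then (fun u => u) else (fun u => u)
  | .x164 => bif b then (fun u => u) else (fun u => u)
  | .x165 => bif b then (fun u => u) else (fun u => u)
  | .x166 => bif b then (fun u => u) else (fun u => u)
  | .x167 => bif b then (fun u => u) else (fun u => u)
  | .x168 => bif b then (fun u => u) else (fun u => u)
  | .x169 => bif b then (fun u => u) else (fun u => u)
  | .x364 => bif b then (fun u => u) else (fun u => u)
  | .x365 => bif b then (fun u => u) else (fun u => u)
  | .x366 => bif b then (fun u => u) else (fun u => u)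
  | .x367 => bif b then (fun u => u) else (fun u => u)
  | .x368 => bif b then (fun u => u) else (fun u => u)
  | .x369 => bif b then (fun u => u) else (fun u => u)
  | .x370 => bif b then (fun u => u) else (fun u => u)
  | .x371 => bif b then (fun u => u) else (fun u => u)

def lets : List (Cfsg.Spor.Ly.Gen × Bool) := [(.a, true), (.a, false), (.b, true), (.b, false)]
def invols : List Cfsg.Spor.Ly.Gen := []
def pairs : List (Cfsg.Spor.Ly.Gen × Cfsg.Spor.Ly.Gen) := []
def extraW : List (List (Cfsg.Spor.Ly.Gen × Bool)) := [
  [(.a, true), (.a, true), (.a, true), (.a, true), (.a, true), (.a, true), (.a, true), (.a, true)],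
  [(.b, true), (.b, true), (.b, true), (.b, true), (.b, true)],
  [(.a, true), (.b, true), (.a, true), (.b, true), (.a, true), (.b, true), (.a, true), (.b, true)],
  [(.a, false), (.a, false), (.b, false), (.a, true), (.a, true), (.b, true)],
  [(.a, false), (.b, false), (.a, true), (.b, true), (.a, false), (.b, false), (.a, true), (.b, true), (.a, false), (.b, false), (.a, true), (.b, true)],
  [(.c1, true), (.c, false)],
  [(.c2, true), (.a, false), (.c, false), (.a, true)],
  [(.c3, true), (.b, false), (.c, false), (.b, true)],
  [(.c4, true), (.b, true), (.c, false), (.b, false)],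
  [(.c5, true), (.c2, false), (.c1, false), (.c2, true), (.c1, true)],
  [(.c1, true), (.c1, true), (.c1, true), (.c1, true), (.c1, true)],
  [(.c5, true), (.c5, true), (.c5, true), (.c5, true), (.c5, true)],
  [(.c1, false), (.c5, false), (.c1, true), (.c5, true)],
  [(.c2, false), (.c5, false), (.c2, true), (.c5, true)],
  [(.c3, false), (.c5, false), (.c3, true), (.c5, true)],
  [(.c4, false), (.c5, false), (.c4, true), (.c5, true)],
  [(.c1, false), (.c3, false), (.c1, true), (.c3, true), (.c5, true), (.c5, true)],
  [(.c1, false), (.c4, false), (.c1, true), (.c4, true), (.c5, false), (.c5, false)],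
  [(.c2, false), (.c3, false), (.c2, true), (.c3, true), (.c5, true)],
  [(.c2, false), (.c4, false), (.c2, true), (.c4, true)],
  [(.c3, false), (.c4, false), (.c3, true), (.c4, true), (.c5, true)],
  [(.a, false), (.c2, true), (.a, true), (.c1, true), (.c1, true)],
  [(.a, false), (.c3, true), (.a, true), (.c4, false), (.c1, false), (.c3, true), (.c3, true)],
  [(.a, false), (.c4, true), (.a, true), (.c4, false), (.c1, false), (.c4, false), (.c3, true), (.c2, true), (.c1, false)],
  [(.a, false), (.c5, true), (.a, true), (.c5, false), (.c5, false)],
  [(.b, false), (.c2, true), (.b, true), (.c4, true), (.c1, true), (.c4, true), (.c3, false), (.c2, false)],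
  [(.b, false), (.c3, true), (.b, true), (.c3, true), (.c3, true), (.c4, false), (.c1, false), (.c1, false)],
  [(.b, false), (.c5, true), (.b, true), (.c5, false)],
  [(.e, true), (.d, false), (.c1, false), (.d, false), (.b, true), (.a, false), (.b, false), (.c1, false), (.d, false), (.a, false), (.c1, false), (.a, true), (.c1, false), (.a, false), (.c1, true), (.a, true), (.b, true), (.b, true)],
  [(.e, true), (.e, true)],
  [(.e, false), (.c1, true), (.e, true), (.c1, true), (.b, false), (.c3, false), (.b, false)],
  [(.e, false), (.c3, true), (.e, true), (.a, true), (.c4, true), (.c1, true), (.c2, false), (.a, false), (.b, false), (.b, false)],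
  [(.e, false), (.c4, true), (.e, true), (.c4, false), (.c3, true), (.b, false), (.b, false)],
  [(.e, false), (.c5, true), (.e, true), (.c4, true), (.c1, false), (.c3, true), (.c1, false)],
  [(.e, true), (.a, true), (.a, true), (.e, true), (.c4, true), (.c5, false), (.c1, false), (.a, false), (.b, true), (.a, false), (.b, false), (.b, false), (.a, false)],
  [(.e, false), (.b, true), (.e, true), (.c4, true), (.c4, true), (.c3, true), (.c1, false)],
  [(.e, true), (.a, true), (.b, true), (.b, true), (.a, true), (.b, false), (.a, true), (.e, true), (.c4, true), (.c5, false), (.c1, false), (.a, false), (.a, false)],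
  [(.e, true), (.c2, true), (.e, true), (.c2, false), (.e, true), (.c2, true), (.c4, false), (.a, true), (.c3, true), (.a, true), (.a, true), (.a, true)],
  [(.d, true), (.e, false), (.b, false), (.c2, true), (.a, false), (.e, false), (.a, false), (.e, false), (.a, false), (.c5, true), (.c4, true), (.c1, true), (.b, true), (.a, true), (.b, false), (.b, false), (.a, false)],
  [(.d, true), (.d, true), (.a, false), (.a, false), (.a, false), (.a, false)],
  [(.b, false), (.d, false), (.b, true), (.d, true)],
  [(.d, false), (.a, true), (.d, true), (.a, false), (.a, false), (.a, false)],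
  [(.d, true), (.c5, true), (.d, true), (.c5, true), (.d, true), (.c5, true), (.d, true), (.c5, true), (.d, true), (.c5, true)],
  [(.d, true), (.c5, true), (.d, true), (.c5, false), (.d, true), (.c5, true), (.a, false), (.a, false)],
  [(.a1, true), (.a, false)],
  [(.a2, true), (.b, true), (.a, false), (.b, false)],
  [(.a3, true), (.b, true), (.b, true), (.a, false), (.b, false), (.b, false)],
  [(.a4, true), (.b, false), (.b, false), (.a, false), (.b, true), (.b, true)],
  [(.u, true), (.a, false), (.a, false)],
  [(.x23, true), (.d, false)],
  [(.x24, true), (.d, true)],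
  [(.x25, true), (.b, false), (.c, false), (.a, true), (.b, false), (.b, false), (.c, true), (.d, false), (.c, true), (.a, true), (.c, false), (.a, false), (.c, true), (.b, false), (.b, false), (.a, true), (.b, true), (.a, true), (.b, false), (.b, false)],
  [(.x29, true), (.c, false), (.b, false), (.c, false), (.d, false), (.b, true), (.b, true), (.c, false), (.d, false), (.b, true), (.c, false), (.b, false), (.c, false), (.a, false), (.c, true), (.b, false), (.b, false), (.a, true), (.b, false), (.b, false), (.a, true), (.b, false), (.a, false)],
  [(.x47, true), (.d, true), (.c, true), (.b, false), (.a, true), (.c, true), (.a, true), (.d, true), (.c, true)],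
  [(.x96, true), (.d, false), (.b, false)],
  [(.x129, true), (.b, true), (.d, true)],
  [(.x162, true), (.a, false), (.b, false), (.c, true), (.a, false), (.b, true), (.c, true), (.b, false), (.a, true), (.b, true), (.a, true)],
  [(.x163, true), (.b, false), (.c, false), (.b, false), (.a, true), (.c, false), (.a, false), (.b, true), (.b, true)],
  [(.x164, true), (.a, false), (.b, false), (.a, false), (.c, false), (.a, true), (.b, true), (.a, true)],
  [(.x165, true), (.b, false), (.a, false), (.b, true), (.c, false), (.b, false), (.a, true), (.b, true)],
  [(.x166, true), (.c, true), (.b, true), (.b, true), (.c, false), (.a, false), (.b, false), (.c, false), (.b, true), (.a, true), (.b, false), (.b, false)],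
  [(.x167, true), (.a, true), (.a, true), (.a, true)],
  [(.x168, true), (.a, true), (.a, true), (.b, true), (.a, true), (.b, false)],
  [(.x169, true), (.a, true), (.b, true), (.b, true), (.a, false), (.b, false), (.b, false), (.a, false)],
  [(.x364, true), (.b, true), (.a, false), (.b, false), (.a, false), (.b, true), (.a, false), (.c, true), (.a, true), (.b, true), (.c, true), (.b, false), (.d, true), (.c, true), (.b, false), (.a, true), (.c, true), (.b, true), (.d, false), (.a, true)],
  [(.x365, true), (.d, true), (.b, true), (.c, false), (.a, true), (.c, false), (.a, false), (.c, false), (.d, false), (.c, true), (.c, true), (.a, true), (.b, false), (.c, true), (.b, false), (.c, false), (.a, true), (.b, true), (.b, true), (.a, false)],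
  [(.x366, true), (.c, false), (.b, false), (.c, false), (.d, false), (.b, true), (.b, true), (.c, false), (.d, false), (.b, false), (.c, false), (.b, false), (.b, false), (.c, false), (.b, true), (.a, true), (.b, true), (.b, true), (.a, true), (.b, true), (.a, false), (.b, false)],
  [(.x367, true), (.b, true), (.a, true), (.b, false), (.a, false), (.b, false), (.b, false), (.a, false), (.b, false), (.c, true), (.b, true), (.b, true), (.c, true), (.b, true), (.d, true), (.c, true), (.b, false), (.b, false), (.d, true), (.c, true), (.b, true), (.c, true)],
  [(.x368, true), (.b, true), (.b, true), (.a, true), (.b, true), (.c, true), (.b, true), (.b, true), (.c, false), (.a, false), (.c, true), (.a, true), (.d, true), (.c, true), (.a, false), (.b, true), (.c, true), (.a, false), (.d, true), (.c, true), (.a, true)],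
  [(.x369, true), (.b, true), (.a, false), (.b, true), (.b, true), (.a, false), (.b, true), (.c, true), (.b, true), (.a, true), (.b, false), (.d, true), (.c, true), (.b, true), (.a, true), (.b, false), (.d, true), (.c, true), (.a, true)],
  [(.x370, true), (.a, true), (.b, false), (.a, true), (.b, true), (.b, true), (.a, true), (.c, false), (.a, true), (.b, true), (.a, false), (.d, true), (.c, true), (.a, true), (.c, false), (.b, false), (.c, false), (.a, false), (.d, true)],
  [(.x371, true), (.b, false), (.a, true), (.b, true), (.a, true), (.b, true), (.c, false), (.a, false), (.c, false), (.a, true), (.c, false), (.d, true), (.c, true), (.b, false), (.c, false), (.a, true), (.c, true)],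
  [(.z, true)]]
def relW : List (List (Cfsg.Spor.Ly.Gen × Bool)) := [
  [(.a, true), (.a, true), (.a, true), (.a, true), (.a, true), (.a, true), (.a, true), (.a, true)],
  [(.b, true), (.b, true), (.b, true), (.b, true), (.b, true)],
  [(.a, true), (.b, true), (.a, true), (.b, true), (.a, true), (.b, true), (.a, true), (.b, true)],
  [(.a, false), (.a, false), (.b, false), (.a, true), (.a, true), (.b, true)],
  [(.a, false), (.b, false), (.a, true), (.b, true), (.a, false), (.b, false), (.a, true), (.b, true), (.a, false), (.b, false), (.a, true), (.b, true)],
  [(.c1, true), (.c, false)],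
  [(.c2, true), (.a, false), (.c, false), (.a, true)],
  [(.c3, true), (.b, false), (.c, false), (.b, true)],
  [(.c4, true), (.b, true), (.c, false), (.b, false)],
  [(.c5, true), (.c2, false), (.c1, false), (.c2, true), (.c1, true)],
  [(.c1, true), (.c1, true), (.c1, true), (.c1, true), (.c1, true)],
  [(.c5, true), (.c5, true), (.c5, true), (.c5, true), (.c5, true)],
  [(.c1, false), (.c5, false), (.c1, true), (.c5, true)],
  [(.c2, false), (.c5, false), (.c2, true), (.c5, true)],
  [(.c3, false), (.c5, false), (.c3, true), (.c5, true)],
  [(.c4, false), (.c5, false), (.c4, true), (.c5, true)],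
  [(.c1, false), (.c3, false), (.c1, true), (.c3, true), (.c5, true), (.c5, true)],
  [(.c1, false), (.c4, false), (.c1, true), (.c4, true), (.c5, false), (.c5, false)],
  [(.c2, false), (.c3, false), (.c2, true), (.c3, true), (.c5, true)],
  [(.c2, false), (.c4, false), (.c2, true), (.c4, true)],
  [(.c3, false), (.c4, false), (.c3, true), (.c4, true), (.c5, true)],
  [(.a, false), (.c2, true), (.a, true), (.c1, true), (.c1, true)],
  [(.a, false), (.c3, true), (.a, true), (.c4, false), (.c1, false), (.c3, true), (.c3, true)],
  [(.a, false), (.c4, true), (.a, true), (.c4, false), (.c1, false), (.c4, false), (.c3, true), (.c2, true), (.c1, false)],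
  [(.a, false), (.c5, true), (.a, true), (.c5, false), (.c5, false)],
  [(.b, false), (.c2, true), (.b, true), (.c4, true), (.c1, true), (.c4, true), (.c3, false), (.c2, false)],
  [(.b, false), (.c3, true), (.b, true), (.c3, true), (.c3, true), (.c4, false), (.c1, false), (.c1, false)],
  [(.b, false), (.c5, true), (.b, true), (.c5, false)],
  [(.e, true), (.d, false), (.c1, false), (.d, false), (.b, true), (.a, false), (.b, false), (.c1, false), (.d, false), (.a, false), (.c1, false), (.a, true), (.c1, false), (.a, false), (.c1, true), (.a, true), (.b, true), (.b, true)],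
  [(.e, true), (.e, true)],
  [(.e, false), (.c1, true), (.e, true), (.c1, true), (.b, false), (.c3, false), (.b, false)],
  [(.e, false), (.c3, true), (.e, true), (.a, true), (.c4, true), (.c1, true), (.c2, false), (.a, false), (.b, false), (.b, false)],
  [(.e, false), (.c4, true), (.e, true), (.c4, false), (.c3, true), (.b, false), (.b, false)],
  [(.e, false), (.c5, true), (.e, true), (.c4, true), (.c1, false), (.c3, true), (.c1, false)],
  [(.e, true), (.a, true), (.a, true), (.e, true), (.c4, true), (.c5, false), (.c1, false), (.a, false), (.b, true), (.a, false), (.b, false), (.b, false), (.a, false)],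
  [(.e, false), (.b, true), (.e, true), (.c4, true), (.c4, true), (.c3, true), (.c1, false)],
  [(.e, true), (.a, true), (.b, true), (.b, true), (.a, true), (.b, false), (.a, true), (.e, true), (.c4, true), (.c5, false), (.c1, false), (.a, false), (.a, false)],
  [(.e, true), (.c2, true), (.e, true), (.c2, false), (.e, true), (.c2, true), (.c4, false), (.a, true), (.c3, true), (.a, true), (.a, true), (.a, true)],
  [(.d, true), (.e, false), (.b, false), (.c2, true), (.a, false), (.e, false), (.a, false), (.e, false), (.a, false), (.c5, true), (.c4, true), (.c1, true), (.b, true), (.a, true), (.b, false), (.b, false), (.a, false)],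
  [(.d, true), (.d, true), (.a, false), (.a, false), (.a, false), (.a, false)],
  [(.b, false), (.d, false), (.b, true), (.d, true)],
  [(.d, false), (.a, true), (.d, true), (.a, false), (.a, false), (.a, false)],
  [(.d, true), (.c5, true), (.d, true), (.c5, true), (.d, true), (.c5, true), (.d, true), (.c5, true), (.d, true), (.c5, true)],
  [(.d, true), (.c5, true), (.d, true), (.c5, false), (.d, true), (.c5, true), (.a, false), (.a, false)],
  [(.a1, true), (.a, false)],
  [(.a2, true), (.b, true), (.a, false), (.b, false)],
  [(.a3, true), (.b, true), (.b, true), (.a, false), (.b, false), (.b, false)],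
  [(.a4, true), (.b, false), (.b, false), (.a, false), (.b, true), (.b, true)],
  [(.u, true), (.a, false), (.a, false)],
  [(.x23, true), (.d, false)],
  [(.x24, true), (.d, true)],
  [(.x25, true), (.b, false), (.c, false), (.a, true), (.b, false), (.b, false), (.c, true), (.d, false), (.c, true), (.a, true), (.c, false), (.a, false), (.c, true), (.b, false), (.b, false), (.a, true), (.b, true), (.a, true), (.b, false), (.b, false)],
  [(.x29, true), (.c, false), (.b, false), (.c, false), (.d, false), (.b, true), (.b, true), (.c, false), (.d, false), (.b, true), (.c, false), (.b, false), (.c, false), (.a, false), (.c, true), (.b, false), (.b, false), (.a, true), (.b, false), (.b, false), (.a, true), (.b, false), (.a, false)],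
  [(.x47, true), (.d, true), (.c, true), (.b, false), (.a, true), (.c, true), (.a, true), (.d, true), (.c, true)],
  [(.x96, true), (.d, false), (.b, false)],
  [(.x129, true), (.b, true), (.d, true)],
  [(.x162, true), (.a, false), (.b, false), (.c, true), (.a, false), (.b, true), (.c, true), (.b, false), (.a, true), (.b, true), (.a, true)],
  [(.x163, true), (.b, false), (.c, false), (.b, false), (.a, true), (.c, false), (.a, false), (.b, true), (.b, true)],
  [(.x164, true), (.a, false), (.b, false), (.a, false), (.c, false), (.a, true), (.b, true), (.a, true)],
  [(.x165, true), (.b, false), (.a, false), (.b, true), (.c, false), (.b, false), (.a, true), (.b, true)],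
  [(.x166, true), (.c, true), (.b, true), (.b, true), (.c, false), (.a, false), (.b, false), (.c, false), (.b, true), (.a, true), (.b, false), (.b, false)],
  [(.x167, true), (.a, true), (.a, true), (.a, true)],
  [(.x168, true), (.a, true), (.a, true), (.b, true), (.a, true), (.b, false)],
  [(.x169, true), (.a, true), (.b, true), (.b, true), (.a, false), (.b, false), (.b, false), (.a, false)],
  [(.x364, true), (.b, true), (.a, false), (.b, false), (.a, false), (.b, true), (.a, false), (.c, true), (.a, true), (.b, true), (.c, true), (.b, false), (.d, true), (.c, true), (.b, false), (.a, true), (.c, true), (.b, true), (.d, false), (.a, true)],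
  [(.x365, true), (.d, true), (.b, true), (.c, false), (.a, true), (.c, false), (.a, false), (.c, false), (.d, false), (.c, true), (.c, true), (.a, true), (.b, false), (.c, true), (.b, false), (.c, false), (.a, true), (.b, true), (.b, true), (.a, false)],
  [(.x366, true), (.c, false), (.b, false), (.c, false), (.d, false), (.b, true), (.b, true), (.c, false), (.d, false), (.b, false), (.c, false), (.b, false), (.b, false), (.c, false), (.b, true), (.a, true), (.b, true), (.b, true), (.a, true), (.b, true), (.a, false), (.b, false)],
  [(.x367, true), (.b, true), (.a, true), (.b, false), (.a, false), (.b, false), (.b, false), (.a, false), (.b, false), (.c, true), (.b, true), (.b, true), (.c, true), (.b, true), (.d, true), (.c, true), (.b, false), (.b, false), (.d, true), (.c, true), (.b, true), (.c, true)],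
  [(.x368, true), (.b, true), (.b, true), (.a, true), (.b, true), (.c, true), (.b, true), (.b, true), (.c, false), (.a, false), (.c, true), (.a, true), (.d, true), (.c, true), (.a, false), (.b, true), (.c, true), (.a, false), (.d, true), (.c, true), (.a, true)],
  [(.x369, true), (.b, true), (.a, false), (.b, true), (.b, true), (.a, false), (.b, true), (.c, true), (.b, true), (.a, true), (.b, false), (.d, true), (.c, true), (.b, true), (.a, true), (.b, false), (.d, true), (.c, true), (.a, true)],
  [(.x370, true), (.a, true), (.b, false), (.a, true), (.b, true), (.b, true), (.a, true), (.c, false), (.a, true), (.b, true), (.a, false), (.d, true), (.c, true), (.a, true), (.c, false), (.b, false), (.c, false), (.a, false), (.d, true)],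
  [(.x371, true), (.b, false), (.a, true), (.b, true), (.a, true), (.b, true), (.c, false), (.a, false), (.c, false), (.a, true), (.c, false), (.d, true), (.c, true), (.b, false), (.c, false), (.a, true), (.c, true)],
  [(.z, true)]]
def subW : List (List (Cfsg.Spor.Ly.Gen × Bool)) := [
  [(.a, true)]]

end CfsgLib.FusionExamples.LySub.LyA
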